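import Groth.Agent.Fano.K470.CurDef
import Groth.Agent.Lefpen.H703.Elim

/-!
# Curves avoiding a point (node PX, first half)

* `isZOpen_avoid`: curves `b` whose projective image avoids the point `y` form an open set;
* `exists_avoid`: a set of curves that degenerates to a comb at `x` contains a curve avoiding `y` if `y` does not lie
  on a line of the threefold through `x`.
-/

set_option autoImplicit false

universe u

namespace K402.PX

open LefPen Groth.Agent.Lefpen.H703.ZOpen Module K714.Irr K714.Frames K470.Cur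
  K656.Trilin K714.Surf

variable {k : Type u} [Field k]
variable {T : (Fin 5 → k) →ₗ[k] (Fin 5 → k) →ₗ[k] (Fin 5 → k) →ₗ[k] k}

section Open

variable {V W : Type u} [AddCommGroup V] [Module k V] [AddCommGroup W] [Module k W]

/-- The complement of a subspace is open. -/
theorem isZOpen_notMem (L : Submodule k V) : IsZOpen k {v : V | v ∉ L} := by
  intro v hv
  obtain ⟨f, hf, hL⟩ := Submodule.exists_dual_map_eq_bot_of_notMem hv inferInstance
  refine ⟨f, isPolyFun_linear' f, hf, fun w hw hwL => hw ?_⟩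
  have h1 : f w ∈ L.map f := ⟨w, hwL, rfl⟩
  rw [hL] at h1
  simpa using h1

theorem isZOpen_notMem_comp (L : Submodule k W) {φ : V → W} (hφ : IsPolyMap k φ) :
    IsZOpen k {v : V | φ v ∉ L} := zo_preimage (isZOpen_notMem L) hφ

theorem pm_sum {ι : Type*} (s : Finset ι) {f : ι → V → W} (hf : ∀ i ∈ s, IsPolyMap k (f i)) :
    IsPolyMap k (fun v => ∑ i ∈ s, f i v) := fun l => by
  simp only [map_sum]
  exact pf_sum s fun i hi => hf i hi l

end Open

/-- The polynomial map `hev`. -/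
theorem pm_hev {e : ℕ} {V : Type u} [AddCommGroup V] [Module k V] {f g : V → k} {b : V → A k e}
    (hf : IsPolyFun k f) (hg : IsPolyFun k g) (hb : IsPolyMap k b) :
    IsPolyMap k (fun v => hev (b v) (f v) (g v)) := by
  refine pm_sum _ fun i _ => pm_smul (pf_mul (pf_pow hf _) (pf_pow hg _)) ?_
  exact pm_comp (isPolyMap_linear (LinearMap.proj i : (Fin (e + 1) → Fin 5 → k) →ₗ[k] (Fin 5 → k))) hb

theorem hev_smul {e : ℕ} (b : A k e) (c s t : k) : hev b (c * s) (c * t) = c ^ e • hev b s t := by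
  rw [hev, hev, Finset.smul_sum]
  refine Finset.sum_congr rfl fun i _ => ?_
  rw [smul_smul]
  congr 1
  have h1 : c ^ e = c ^ (e - (i : ℕ)) * c ^ (i : ℕ) := by
    rw [← pow_add, Nat.sub_add_cancel (Nat.lt_succ_iff.1 i.2)]
  rw [mul_pow, mul_pow, h1]
  ring

theorem ne_zero_iff_pair (v : k × k) : v ≠ 0 ↔ v.1 ≠ 0 ∨ v.2 ≠ 0 := by
  rw [Ne, Prod.ext_iff, not_and_or]
  rfl

/-- Curves avoiding a point form an open set. -/
theorem isZOpen_avoid [IsAlgClosed k] {e : ℕ} {y : Fin 5 → k} :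
    IsZOpen k {b : A k e | ∀ s t : k, (s ≠ 0 ∨ t ≠ 0) → hev b s t ∉ Submodule.span k {y}} := by
  have h1 : IsZOpen k {p : (k × k) × A k e | hev p.2 p.1.1 p.1.2 ∉ Submodule.span k {y}} := by
    refine isZOpen_notMem_comp _ (pm_hev ?_ ?_ isPolyMap_snd)
    · exact isPolyFun_linear' ((LinearMap.fst k k k).comp (LinearMap.fst k (k × k) (A k e)))
    · exact isPolyFun_linear' ((LinearMap.snd k k k).comp (LinearMap.fst k (k × k) (A k e)))
  have h2 := Groth.Agent.Lefpen.H703.Elim.isZOpen_forall_ne_zero (k := k) (E := k × k) h1 (by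
    intro v w c hc hv
    change hev w (c • v).1 (c • v).2 ∉ _
    rw [Prod.smul_fst, Prod.smul_snd, smul_eq_mul, smul_eq_mul, hev_smul]
    intro h
    apply hv
    change hev w v.1 v.2 ∈ _
    have h3 := Submodule.smul_mem _ (c ^ e)⁻¹ h
    rwa [smul_smul, inv_mul_cancel₀ (pow_ne_zero _ hc), one_smul] at h3)
  refine (isZOpen_congr fun b => ?_).1 h2
  constructor
  · intro h s t hst
    exact h (s, t) ((ne_zero_iff_pair _).2 hst)
  · intro h v hv
    exact h v.1 v.2 ((ne_zero_iff_pair _).1 hv)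

/-- The divided difference `(hev b s t - s^e ev b r) / (t - s r)`. -/
def dq {e : ℕ} (b : A k e) (s t r : k) : Fin 5 → k :=
  ∑ j : Fin (e + 1), (s ^ (e - (j : ℕ)) * ∑ l ∈ Finset.range (j : ℕ), t ^ l * (s * r) ^ ((j : ℕ) - 1 - l)) • b j

theorem hev_eq_dq {e : ℕ} (b : A k e) (s t r : k) :
    hev b s t = s ^ e • ev b r + (t - s * r) • dq b s t r := by
  rw [hev, ev, dq, Finset.smul_sum, Finset.smul_sum, ← Finset.sum_add_distrib]
  refine Finset.sum_congr rfl fun j _ => ?_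
  rw [smul_smul, smul_smul, ← add_smul]
  congr 1
  have h1 : (t - s * r) * ∑ l ∈ Finset.range (j : ℕ), t ^ l * (s * r) ^ ((j : ℕ) - 1 - l) =
      t ^ (j : ℕ) - (s * r) ^ (j : ℕ) := by
    rw [mul_comm, (Commute.all t (s * r)).geom_sum₂_mul]
  have h2 : s ^ e = s ^ (e - (j : ℕ)) * s ^ (j : ℕ) := by
    rw [← pow_add, Nat.sub_add_cancel (Nat.lt_succ_iff.1 j.2)]
  calc s ^ (e - (j : ℕ)) * t ^ (j : ℕ)
      = s ^ (e - (j : ℕ)) * (s * r) ^ (j : ℕ) + s ^ (e - (j : ℕ)) * (t ^ (j : ℕ) - (s * r) ^ (j : ℕ)) := by ring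
    _ = s ^ e * r ^ (j : ℕ) + s ^ (e - (j : ℕ)) * (t ^ (j : ℕ) - (s * r) ^ (j : ℕ)) := by
        rw [h2, mul_pow]; ring
    _ = _ := by rw [← h1]; ring

theorem dq_smul {e : ℕ} (b : A k (e + 1)) (c s t r : k) :
    dq b (c * s) (c * t) r = c ^ e • dq b s t r := by
  rw [dq, dq, Finset.smul_sum]
  refine Finset.sum_congr rfl fun j _ => ?_
  rw [smul_smul]
  congr 1
  rw [Finset.mul_sum, Finset.mul_sum, Finset.mul_sum]
  refine Finset.sum_congr rfl fun l hl => ?_
  have hl' : l < (j : ℕ) := Finset.mem_range.1 hl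
  have hj : (j : ℕ) ≤ e + 1 := Nat.lt_succ_iff.1 j.2
  have h1 : c ^ e = c ^ (e + 1 - (j : ℕ)) * (c ^ l * c ^ ((j : ℕ) - 1 - l)) := by
    rw [← pow_add, ← pow_add]
    congr 1
    omega
  rw [mul_pow, mul_pow, show c * s * r = c * (s * r) by ring, mul_pow, h1]
  ring

/-- Value of the divided difference on the diagonal. -/
theorem dq_diag {e : ℕ} (b : A k (e + 1)) (s r : k) : dq b s (s * r) r = s ^ e • hd b 1 r := by
  rw [dq, hd, Finset.smul_sum]
  refine Finset.sum_congr rfl fun j _ => ?_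
  rw [smul_smul]
  congr 1
  have h1 : ∑ l ∈ Finset.range (j : ℕ), (s * r) ^ l * (s * r) ^ ((j : ℕ) - 1 - l) =
      (j : ℕ) * (s * r) ^ ((j : ℕ) - 1) := by
    rw [Finset.sum_congr rfl (g := fun _ => (s * r) ^ ((j : ℕ) - 1)) fun l hl => ?_, Finset.sum_const,
      Finset.card_range, nsmul_eq_mul]
    have hl' : l < (j : ℕ) := Finset.mem_range.1 hl
    rw [← pow_add]
    congr 1
    omega
  rw [h1, Nat.choose_one_right]
  rcases Nat.eq_zero_or_pos (j : ℕ) with h0 | h0
  · rw [h0]; simp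
  · have hj : (j : ℕ) ≤ e + 1 := Nat.lt_succ_iff.1 j.2
    have h2 : s ^ e = s ^ (e + 1 - (j : ℕ)) * s ^ ((j : ℕ) - 1) := by
      rw [← pow_add]
      congr 1
      omega
    rw [h2, mul_pow]
    ring

/-- The derivative of `∏ (s - t_i)` at a simple root. -/
theorem hd_prodCurve {e : ℕ} (x : Fin 5 → k) (t : Fin e → k) (i : Fin e) :
    hd (prodCurve x t) 1 (t i) = (∏ j ∈ Finset.univ.erase i, (t i - t j)) • x := by
  have h1 : hd (prodCurve x t) 1 (t i) =
      (Polynomial.eval (t i) (Polynomial.derivative (∏ j, (Polynomial.X - Polynomial.C (t j))))) • x := by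
    have hdeg : (∏ j, (Polynomial.X - Polynomial.C (t j))).natDegree < e + 1 := by
      rw [Polynomial.natDegree_prod_of_monic _ _ fun j _ => Polynomial.monic_X_sub_C _]
      simp
    rw [Polynomial.derivative_eval, Polynomial.sum_over_range' _ (by simp) (e + 1) hdeg, Finset.sum_smul, hd,
      Finset.sum_range]
    refine Finset.sum_congr rfl fun j _ => ?_
    rw [prodCurve, smul_smul, Nat.choose_one_right]
    congr 1
    ring
  rw [h1, ← Finset.mul_prod_erase Finset.univ _ (Finset.mem_univ i), Polynomial.derivative_mul]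
  simp [Polynomial.eval_prod]

theorem ev_prodCurve {e : ℕ} (x : Fin 5 → k) (t : Fin e → k) (s : k) :
    ev (prodCurve x t) s = (∏ j, (s - t j)) • x := by
  have hdeg : (∏ j, (Polynomial.X - Polynomial.C (t j))).natDegree < e + 1 := by
    rw [Polynomial.natDegree_prod_of_monic _ _ fun j _ => Polynomial.monic_X_sub_C _]
    simp
  have h1 : (∏ j, (s - t j)) = Polynomial.eval s (∏ j, (Polynomial.X - Polynomial.C (t j))) := by
    simp [Polynomial.eval_prod]
  rw [h1, Polynomial.eval_eq_sum_range' hdeg, Finset.sum_smul, ev, Finset.sum_range]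
  refine Finset.sum_congr rfl fun j _ => ?_
  rw [prodCurve, smul_smul, mul_comm]

theorem hev_eq_ev {e : ℕ} (b : A k e) {s : k} (hs : s ≠ 0) (t : k) : hev b s t = s ^ e • ev b (s⁻¹ * t) := by
  rw [hev, ev, Finset.smul_sum]
  refine Finset.sum_congr rfl fun j _ => ?_
  have h2 : s ^ e = s ^ (e - (j : ℕ)) * s ^ (j : ℕ) := by
    rw [← pow_add, Nat.sub_add_cancel (Nat.lt_succ_iff.1 j.2)]
  rw [smul_smul, mul_pow, h2]
  congr 1
  have h3 : s ^ (j : ℕ) * (s⁻¹) ^ (j : ℕ) = 1 := by rw [← mul_pow, mul_inv_cancel₀ hs, one_pow]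
  calc s ^ (e - (j : ℕ)) * t ^ (j : ℕ) = s ^ (e - (j : ℕ)) * (s ^ (j : ℕ) * (s⁻¹) ^ (j : ℕ)) * t ^ (j : ℕ) := by
        rw [h3, mul_one]
    _ = _ := by ring

theorem hev_zero_left {e : ℕ} (b : A k e) (t : k) : hev b 0 t = t ^ e • b (Fin.last e) := by
  rw [hev, Finset.sum_eq_single (Fin.last e)]
  · simp
  · intro j _ hj
    have h1 : (j : ℕ) < e := lt_of_le_of_ne (Nat.lt_succ_iff.1 j.2) fun h => hj (Fin.ext h)
    rw [zero_pow (by omega), zero_mul, zero_smul]
  · intro h; exact (h (Finset.mem_univ _)).elim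

/-- The homogeneous form. -/
theorem hev_prodCurve {e : ℕ} (x : Fin 5 → k) (τ : Fin e → k) (s t : k) :
    hev (prodCurve x τ) s t = (∏ j, (t - s * τ j)) • x := by
  by_cases hs : s = 0
  · subst hs
    rw [hev_zero_left]
    have h1 : (∏ j, (Polynomial.X - Polynomial.C (τ j))).coeff e = 1 := by
      have h2 : (∏ j, (Polynomial.X - Polynomial.C (τ j))).natDegree = e := by
        rw [Polynomial.natDegree_prod_of_monic _ _ fun j _ => Polynomial.monic_X_sub_C _]
        simp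
      have h3 := Polynomial.monic_prod_of_monic Finset.univ (fun j => Polynomial.X - Polynomial.C (τ j))
        fun j _ => Polynomial.monic_X_sub_C _
      have h4 := h3.coeff_natDegree
      rwa [h2] at h4
    change t ^ e • ((∏ j, (Polynomial.X - Polynomial.C (τ j))).coeff e • x) = _
    rw [h1, one_smul]
    simp
  · rw [hev_eq_ev _ hs, ev_prodCurve, smul_smul]
    congr 1
    rw [show s ^ e = ∏ _j : Fin e, s by simp, ← Finset.prod_mul_distrib]
    refine Finset.prod_congr rfl fun j _ => ?_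
    rw [mul_sub, mul_inv_cancel_left₀ hs]

theorem pm_dq {e : ℕ} {V : Type u} [AddCommGroup V] [Module k V] {f g r : V → k} {b : V → A k e}
    (hf : IsPolyFun k f) (hg : IsPolyFun k g) (hr : IsPolyFun k r) (hb : IsPolyMap k b) :
    IsPolyMap k (fun v => dq (b v) (f v) (g v) (r v)) := by
  refine pm_sum _ fun j _ => pm_smul (pf_mul (pf_pow hf _) (pf_sum _ fun l _ =>
    pf_mul (pf_pow hg _) (pf_pow (pf_mul hf hr) _))) ?_
  exact pm_comp (isPolyMap_linear (LinearMap.proj j : (Fin (e + 1) → Fin 5 → k) →ₗ[k] (Fin 5 → k))) hb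

/-- The open condition near the `i`-th tooth. -/
theorem isZOpen_tooth [IsAlgClosed k] {e : ℕ} (y : Fin 5 → k) (i : Fin e) :
    IsZOpen k {q : (k × k) × Y k e | q.1.1 ≠ 0 ∧ ∀ l m : k, (l ≠ 0 ∨ m ≠ 0) →
      l • dq q.2.1 q.1.1 q.1.2 (q.2.2.1 i) + m • q.2.2.2.2 i ∉ Submodule.span k {y}} := by
  have hs : IsPolyFun k (fun q : (k × k) × Y k e => q.1.1) :=
    isPolyFun_linear' ((LinearMap.fst k k k).comp (LinearMap.fst k (k × k) (Y k e)))
  have ht : IsPolyFun k (fun q : (k × k) × Y k e => q.1.2) :=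
    isPolyFun_linear' ((LinearMap.snd k k k).comp (LinearMap.fst k (k × k) (Y k e)))
  have hb : IsPolyMap k (fun q : (k × k) × Y k e => q.2.1) :=
    pm_comp (φ := fun z : Y k e => z.1) isPolyMap_fst isPolyMap_snd
  have hr : IsPolyFun k (fun q : (k × k) × Y k e => q.2.2.1 i) :=
    isPolyFun_linear' (((LinearMap.proj i : (Fin e → k) →ₗ[k] k).comp
      ((LinearMap.fst k (Fin e → k) ((Fin e → k) × (Fin e → Fin 5 → k))).comp
        (LinearMap.snd k (A k e) ((Fin e → k) × (Fin e → k) × (Fin e → Fin 5 → k))))).comp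
      (LinearMap.snd k (k × k) (Y k e)))
  have hp : IsPolyMap k (fun q : (k × k) × Y k e => q.2.2.2.2 i) :=
    isPolyMap_linear ((((LinearMap.proj i : (Fin e → Fin 5 → k) →ₗ[k] (Fin 5 → k)).comp
      (LinearMap.snd k (Fin e → k) (Fin e → Fin 5 → k))).comp
      ((LinearMap.snd k (Fin e → k) ((Fin e → k) × (Fin e → Fin 5 → k))).comp
        (LinearMap.snd k (A k e) ((Fin e → k) × (Fin e → k) × (Fin e → Fin 5 → k))))).comp
      (LinearMap.snd k (k × k) (Y k e)))
  have hd : IsPolyMap k (fun q : (k × k) × Y k e => dq q.2.1 q.1.1 q.1.2 (q.2.2.1 i)) := pm_dq hs ht hr hb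
  have h1 : IsZOpen k {w : (k × k) × ((k × k) × Y k e) |
      w.1.1 • dq w.2.2.1 w.2.1.1 w.2.1.2 (w.2.2.2.1 i) + w.1.2 • w.2.2.2.2.2 i ∉ Submodule.span k {y}} := by
    refine isZOpen_notMem_comp _ (pm_add (pm_smul ?_ ?_) (pm_smul ?_ ?_))
    · exact isPolyFun_linear' ((LinearMap.fst k k k).comp (LinearMap.fst k (k × k) ((k × k) × Y k e)))
    · exact pm_comp (φ := fun q : (k × k) × Y k e => dq q.2.1 q.1.1 q.1.2 (q.2.2.1 i)) hd isPolyMap_snd
    · exact isPolyFun_linear' ((LinearMap.snd k k k).comp (LinearMap.fst k (k × k) ((k × k) × Y k e)))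
    · exact pm_comp (φ := fun q : (k × k) × Y k e => q.2.2.2.2 i) hp isPolyMap_snd
  have h2 := Groth.Agent.Lefpen.H703.Elim.isZOpen_forall_ne_zero (k := k) (E := k × k) h1 (by
    intro v w c hc hv
    change (c • v).1 • _ + (c • v).2 • _ ∉ _
    rw [Prod.smul_fst, Prod.smul_snd, smul_assoc, smul_assoc, ← smul_add]
    intro h
    apply hv
    have h3 := Submodule.smul_mem _ c⁻¹ h
    rwa [smul_smul, inv_mul_cancel₀ hc, one_smul] at h3)
  have h3 := zo_inter (isZOpen_basic hs) h2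
  refine (isZOpen_congr fun q => ?_).1 h3
  constructor
  · rintro ⟨h, h'⟩
    exact ⟨h, fun l m hlm => h' (l, m) ((ne_zero_iff_pair _).2 hlm)⟩
  · rintro ⟨h, h'⟩
    exact ⟨h, fun v hv => h' v.1 v.2 ((ne_zero_iff_pair _).1 hv)⟩

/-- Independent vectors `x, p`, both isotropic: if `y` is a combination, then `(x, y)` is a frame of a line. -/
theorem notMem_span_of_notMem_FR (hT : IsSym3 T) {x y p : Fin 5 → k} (hxp : (x, p) ∈ FR T)
    (hxy : x ∉ Submodule.span k {y}) (hl : (x, y) ∉ FR T) {c l m : k} (hc : c ≠ 0) (hlm : l ≠ 0 ∨ m ≠ 0) :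
    l • c • x + m • p ∉ Submodule.span k {y} := by
  obtain ⟨hli, h1, h2, h3, h4⟩ := hxp
  simp only at h1 h2 h3 h4
  intro h
  obtain ⟨d, hd⟩ := Submodule.mem_span_singleton.1 h
  rw [smul_smul] at hd
  have hpair := LinearIndependent.pair_iff.1 hli
  have hd0 : d ≠ 0 := by
    rintro rfl
    rw [zero_smul] at hd
    obtain ⟨h5, h6⟩ := hpair _ _ hd.symm
    rcases hlm with h7 | h7
    · exact (mul_ne_zero h7 hc) h5
    · exact h7 h6
  have hy : y = (d⁻¹ * (l * c)) • x + (d⁻¹ * m) • p := by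
    rw [mul_smul, mul_smul d⁻¹ m p, ← smul_add, ← hd, smul_smul, inv_mul_cancel₀ hd0, one_smul]
  generalize d⁻¹ * (l * c) = a at hy
  generalize d⁻¹ * m = b at hy
  have hb : b ≠ 0 := by
    rintro rfl
    rw [zero_smul, add_zero] at hy
    by_cases ha : a = 0
    · rw [ha, zero_smul] at hy
      rw [hy, smul_zero] at hd
      obtain ⟨h5, h6⟩ := hpair _ _ hd.symm
      rcases hlm with h7 | h7
      · exact (mul_ne_zero h7 hc) h5
      · exact h7 h6
    · apply hxy
      rw [Submodule.mem_span_singleton]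
      exact ⟨a⁻¹, by rw [hy, smul_smul, inv_mul_cancel₀ ha, one_smul]⟩
  apply hl
  refine ⟨?_, h1, ?_, ?_, ?_⟩
  · rw [LinearIndependent.pair_iff]
    intro u v huv
    simp only at huv
    rw [hy, smul_add, smul_smul, smul_smul, ← add_assoc, ← add_smul] at huv
    obtain ⟨h5, h6⟩ := hpair _ _ huv
    have hv : v = 0 := (mul_eq_zero.1 h6).resolve_right hb
    refine ⟨?_, hv⟩
    rw [hv, zero_mul, add_zero] at h5
    exact h5
  · simp only
    rw [hy]
    simp only [map_add, map_smul, LinearMap.add_apply, LinearMap.smul_apply, smul_eq_mul, h1, h2]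
    ring
  · simp only
    rw [hy]
    simp only [map_add, map_smul, LinearMap.add_apply, LinearMap.smul_apply, smul_eq_mul, h1, h2, h3,
      hT.s23 x p x]
    ring
  · simp only
    rw [hy]
    rw [hT.cube_smul_add_smul, h1, h2, h3, h4]
    ring

/-- A set of curves that degenerates to a comb at `x` contains a curve avoiding `y`. -/
theorem exists_avoid [IsAlgClosed k] [CharZero k] (hT : IsSym3 T) {e : ℕ} {W : Set (A k e)} (hW : Irr k W)
    {x y : Fin 5 → k} (hx0 : x ≠ 0) (hxy : x ∉ Submodule.span k {y}) (hl : (x, y) ∉ FR T) (hr : Reach T x W) :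
    ∃ b ∈ W, ∀ s t : k, (s ≠ 0 ∨ t ≠ 0) → hev b s t ∉ Submodule.span k {y} := by
  obtain ⟨τ, p, ⟨hinj, hp⟩, hcl⟩ := hr
  -- the open set around the comb
  let N : Set ((k × k) × Y k e) := {q | hev q.2.1 q.1.1 q.1.2 ∉ Submodule.span k {y}}
  let N' : Fin e → Set ((k × k) × Y k e) := fun i => {q | q.1.1 ≠ 0 ∧ ∀ l m : k, (l ≠ 0 ∨ m ≠ 0) →
      l • dq q.2.1 q.1.1 q.1.2 (q.2.2.1 i) + m • q.2.2.2.2 i ∉ Submodule.span k {y}}
  have hN : IsZOpen k N := by
    refine isZOpen_notMem_comp _ (pm_hev ?_ ?_ ?_)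
    · exact isPolyFun_linear' ((LinearMap.fst k k k).comp (LinearMap.fst k (k × k) (Y k e)))
    · exact isPolyFun_linear' ((LinearMap.snd k k k).comp (LinearMap.fst k (k × k) (Y k e)))
    · exact pm_comp (φ := fun z : Y k e => z.1) isPolyMap_fst isPolyMap_snd
  have hO : IsZOpen k (N ∪ ⋃ i, N' i) := zo_union hN (isZOpen_iUnion fun i => isZOpen_tooth y i)
  have h2 := Groth.Agent.Lefpen.H703.Elim.isZOpen_forall_ne_zero (k := k) (E := k × k) hO (by
    rintro v w c hc (hv | hv)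
    · left
      change hev w.1 (c • v).1 (c • v).2 ∉ _
      rw [Prod.smul_fst, Prod.smul_snd, smul_eq_mul, smul_eq_mul, hev_smul]
      intro h
      apply hv
      change hev w.1 v.1 v.2 ∈ _
      have h3 := Submodule.smul_mem _ (c ^ e)⁻¹ h
      rwa [smul_smul, inv_mul_cancel₀ (pow_ne_zero _ hc), one_smul] at h3
    · right
      obtain ⟨i, hi⟩ := Set.mem_iUnion.1 hv
      refine Set.mem_iUnion.2 ⟨i, ?_⟩
      obtain ⟨hi1, hi2⟩ := hi
      refine ⟨mul_ne_zero hc hi1, fun l m hlm => ?_⟩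
      obtain ⟨e', rfl⟩ : ∃ e', e = e' + 1 := ⟨e - 1, by have := i.2; omega⟩
      change l • dq w.1 (c • v).1 (c • v).2 (w.2.1 i) + m • w.2.2.2 i ∉ _
      rw [Prod.smul_fst, Prod.smul_snd, smul_eq_mul, smul_eq_mul, dq_smul, smul_smul]
      refine hi2 _ _ ?_
      rcases hlm with h | h
      · exact Or.inl (mul_ne_zero h (pow_ne_zero _ hc))
      · exact Or.inr h)
  -- the comb lies in it
  have h3 : comb x τ p ∈ {w : Y k e | ∀ v : k × k, v ≠ 0 → (v, w) ∈ N ∪ ⋃ i, N' i} := by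
    intro v hv
    by_cases hprod : (∏ j, (v.2 - v.1 * τ j)) = 0
    · right
      obtain ⟨i, -, hi⟩ := Finset.prod_eq_zero_iff.1 hprod
      refine Set.mem_iUnion.2 ⟨i, ?_⟩
      have hv2 : v.2 = v.1 * τ i := sub_eq_zero.1 hi
      have hv1 : v.1 ≠ 0 := by
        intro h
        apply hv
        rw [h, zero_mul] at hv2
        exact Prod.ext h hv2
      refine ⟨hv1, fun l m hlm => ?_⟩
      obtain ⟨e', rfl⟩ : ∃ e', e = e' + 1 := ⟨e - 1, by have := i.2; omega⟩
      change l • dq (prodCurve x τ) v.1 v.2 (τ i) + m • p i ∉ _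
      rw [hv2, dq_diag, hd_prodCurve, smul_smul (v.1 ^ e')]
      refine notMem_span_of_notMem_FR hT (hp i) hxy hl (mul_ne_zero (pow_ne_zero _ hv1) ?_) hlm
      refine Finset.prod_ne_zero_iff.2 fun j hj => sub_ne_zero.2 fun h => ?_
      exact (Finset.mem_erase.1 hj).1 (hinj h).symm
    · left
      change hev (prodCurve x τ) v.1 v.2 ∉ _
      rw [hev_prodCurve]
      intro h
      apply hxy
      have h4 := Submodule.smul_mem _ (∏ j, (v.2 - v.1 * τ j))⁻¹ h
      rwa [smul_smul, inv_mul_cancel₀ hprod, one_smul] at h4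
  obtain ⟨z, ⟨hz1, hz2, hz3⟩, hz⟩ := hcl _ h2 h3
  refine ⟨z.1, hz1, fun s t hst => ?_⟩
  rcases hz (s, t) ((ne_zero_iff_pair _).2 hst) with h | h
  · exact h
  · obtain ⟨i, hi1, hi2⟩ := Set.mem_iUnion.1 h
    obtain ⟨hα, hev'⟩ := hz3 i
    rw [hev_eq_dq z.1 s t (z.2.1 i), hev', smul_smul, add_comm]
    exact hi2 _ _ (Or.inr (mul_ne_zero (pow_ne_zero _ hi1) hα))

end K402.PX
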