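import Groth.Agent.Fano.K402.Avoid
import Groth.Agent.Fano.K424.X0
import Groth.Agent.Fano.K305.DimA

/-!
# Curves through a fixed point have codimension two (node PX, second half)
-/

set_option autoImplicit false

universe u

namespace K402.PX

open LefPen Groth.Agent.Lefpen.H703.ZOpen Module K714.Irr K714.Frames K470.Cur K305.DimA
  K656.Trilin K714.Surf

variable {k : Type u} [Field k]
variable {T : (Fin 5 → k) →ₗ[k] (Fin 5 → k) →ₗ[k] (Fin 5 → k) →ₗ[k] k}

section Basics

theorem ev_zero' {e : ℕ} (a : A k e) : ev a 0 = a 0 := by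
  rw [ev, Finset.sum_eq_single (0 : Fin (e + 1))]
  · simp
  · intro j _ hj
    have h1 : (j : ℕ) ≠ 0 := fun h => hj (Fin.ext h)
    rw [zero_pow h1, zero_smul]
  · intro h; exact (h (Finset.mem_univ _)).elim

theorem hev_one {e : ℕ} (a : A k e) (s : k) : hev a 1 s = ev a s := by
  rw [hev, ev]
  simp

/-- Taylor expansion. -/
theorem ev_add' {e : ℕ} (a : A k e) (s h : k) : ev a (s + h) = ∑ j : Fin (e + 1), h ^ (j : ℕ) • hd a j s := by
  simp only [hd, Finset.smul_sum]
  rw [Finset.sum_comm, ev]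
  refine Finset.sum_congr rfl fun i _ => ?_
  simp only [smul_smul]
  rw [← Finset.sum_smul]
  congr 1
  rw [add_comm s h, add_pow, ← Fin.sum_univ_eq_sum_range (fun m => h ^ m * s ^ ((i : ℕ) - m) * ((i : ℕ).choose m : k))]
  have h1 : ∑ j : Fin (e + 1), h ^ (j : ℕ) * (((i : ℕ).choose (j : ℕ) : k) * s ^ ((i : ℕ) - (j : ℕ))) =
      ∑ j ∈ Finset.range (e + 1), h ^ j * (((i : ℕ).choose j : k) * s ^ ((i : ℕ) - j)) := by
    rw [Finset.sum_range]
  rw [h1, Fin.sum_univ_eq_sum_range (fun m => h ^ m * s ^ ((i : ℕ) - m) * ((i : ℕ).choose m : k))]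
  have h2 : Finset.range ((i : ℕ) + 1) ⊆ Finset.range (e + 1) := Finset.range_mono i.2
  rw [← Finset.sum_subset h2]
  · refine Finset.sum_congr rfl fun j _ => ?_
    ring
  · intro j _ hj
    rw [Finset.mem_range, not_lt] at hj
    rw [Nat.choose_eq_zero_of_lt (by omega)]
    simp

/-- The translation. -/
def tr (e : ℕ) (r : k) : A k e →ₗ[k] A k e where
  toFun a := fun i => hd a i r
  map_add' a b := by
    funext i
    simp only [hd, Pi.add_apply, smul_add, Finset.sum_add_distrib]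
  map_smul' c a := by
    funext i
    simp only [hd, Pi.smul_apply, RingHom.id_apply, Finset.smul_sum]
    refine Finset.sum_congr rfl fun j _ => ?_
    rw [smul_comm]

theorem ev_tr {e : ℕ} (a : A k e) (r s : k) : ev (tr e r a) s = ev a (r + s) := by
  rw [ev_add']
  rfl

/-- If `l (ev a s) = 0` for infinitely many `s`, then `l` kills the coefficients. -/
theorem coeff_zero {e : ℕ} {a : A k e} (l : (Fin 5 → k) →ₗ[k] k) {S : Set k} (hS : S.Infinite)
    (h : ∀ s ∈ S, l (ev a s) = 0) (i : Fin (e + 1)) : l (a i) = 0 := by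
  let P : Polynomial k := ∑ j : Fin (e + 1), Polynomial.monomial (j : ℕ) (l (a j))
  have hP : ∀ s, P.eval s = l (ev a s) := by
    intro s
    simp only [P, Polynomial.eval_finsetSum, Polynomial.eval_monomial, ev, map_sum, map_smul, smul_eq_mul]
    exact Finset.sum_congr rfl fun j _ => mul_comm _ _
  have h0 : P = 0 := Polynomial.eq_zero_of_infinite_isRoot P (hS.mono fun s hs => by
    change P.eval s = 0
    rw [hP, h s hs])
  have h1 : P.coeff (i : ℕ) = l (a i) := by
    simp only [P, Polynomial.finsetSum_coeff, Polynomial.coeff_monomial]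
    rw [Finset.sum_eq_single i]
    · simp
    · intro j _ hj
      rw [if_neg]
      exact fun h => hj (Fin.ext h)
    · intro h; exact (h (Finset.mem_univ _)).elim
  rw [← h1, h0, Polynomial.coeff_zero]

theorem eq_zero_of_ev [Infinite k] {e : ℕ} {a : A k e} (h : ∀ s, ev a s = 0) : a = 0 := by
  funext i j
  exact coeff_zero (LinearMap.proj j) (Set.infinite_univ (α := k)) (fun s _ => by rw [h s, map_zero]) i

theorem tr_neg_tr [Infinite k] {e : ℕ} (r : k) (a : A k e) : tr e (-r) (tr e r a) = a := by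
  rw [← sub_eq_zero]
  refine eq_zero_of_ev fun s => ?_
  have h1 : ev (tr e (-r) (tr e r a) - a) s = ev (tr e (-r) (tr e r a)) s - ev a s := by
    simp only [ev, Pi.sub_apply, smul_sub, Finset.sum_sub_distrib]
  rw [h1, ev_tr, ev_tr, sub_eq_zero]
  congr 1
  ring

theorem tr_tr_neg [Infinite k] {e : ℕ} (r : k) (a : A k e) : tr e r (tr e (-r) a) = a := by
  have h := tr_neg_tr (-r) a
  rwa [neg_neg] at h

/-- A vector killed by all forms vanishing on `y` is a multiple of `y`. -/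
theorem mem_span_of_forall {y v : Fin 5 → k} (h : ∀ l : (Fin 5 → k) →ₗ[k] k, l y = 0 → l v = 0) :
    v ∈ Submodule.span k {y} := by
  by_contra hv
  obtain ⟨f, hf, hL⟩ := Submodule.exists_dual_map_eq_bot_of_notMem hv inferInstance
  refine hf (h f ?_)
  have h1 : f y ∈ (Submodule.span k {y}).map f := ⟨y, Submodule.mem_span_singleton_self y, rfl⟩
  rw [hL] at h1
  simpa using h1

theorem pf_T3 {V : Type u} [AddCommGroup V] [Module k V] {φ : V → Fin 5 → k} (hφ : IsPolyMap k φ) :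
    IsPolyFun k (fun v => T (φ v) (φ v) (φ v)) := by
  have hi : ∀ i, IsPolyFun k (fun v => φ v i) := isPolyMap_pi.1 hφ
  have h1 : (fun v => T (φ v) (φ v) (φ v)) = fun v => ∑ i, ∑ j, ∑ l,
      T (Pi.single i 1) (Pi.single j 1) (Pi.single l 1) * (φ v i * φ v j * φ v l) := by
    funext v
    exact T_expand T _ _ _
  rw [h1]
  exact pf_sum _ fun i _ => pf_sum _ fun j _ => pf_sum _ fun l _ =>
    pf_const_mul _ (pf_mul (pf_mul (hi i) (hi j)) (hi l))

theorem pm_ev {e : ℕ} (s : k) : IsPolyMap k (fun a : A k e => ev a s) :=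
  pm_sum _ fun i _ => pm_smul (isPolyFun_const _)
    (isPolyMap_linear (LinearMap.proj i : (Fin (e + 1) → Fin 5 → k) →ₗ[k] (Fin 5 → k)))

theorem isZOpen_compl_Z' (e : ℕ) : IsZOpen k (Z T e)ᶜ := by
  have h := isZOpen_compl_zeros (k := k) (V := A k e) (f := fun s : k => fun a : A k e => T (ev a s) (ev a s) (ev a s))
    fun s => pf_T3 (pm_ev s)
  refine (isZOpen_congr fun a => ?_).1 h
  simp [Z]

end Basics

/-- **Curves through a fixed point.** -/
theorem px_of [IsAlgClosed k] [CharZero k] (hT : IsSym3 T) (hsm : SmoothOn T ⊤) {e : ℕ}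
    (exists_good : ∃ O : Set (Fin 5 → k), IsZOpen k O ∧ (X0 T ∩ O).Nonempty ∧ ∀ x ∈ O, T x x x = 0 → GoodPt T x)
    (comp_translate : ∀ {W : Set (A k e)}, IsComp k (Z T e) W → ∀ (c : k) {a : A k e}, a ∈ W →
      (fun i => hd a i c : A k e) ∈ W)
    (isComp_closed : ∀ {X C : Set (A k e)}, IsZOpen k Xᶜ → IsComp k X C → IsZOpen k Cᶜ)
    (exists_comp : ∀ {X S : Set (A k e)}, IsZOpen k Xᶜ → Irr k S → S ⊆ X → ∃ C, IsComp k X C ∧ S ⊆ C)
    (finite_comps : ∀ {X : Set (A k e)}, IsZOpen k Xᶜ → {C | IsComp k X C}.Finite)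
    (mem_comp : ∀ {X : Set (A k e)}, IsZOpen k Xᶜ → ∀ {v : A k e}, v ∈ X → ∃ C, IsComp k X C ∧ v ∈ C)
    (hA : DimLE k (Z T e) (2 * e + 4))
    (hB : ∀ W, IsComp k (Z T e) W → ∀ x, GoodPt T x → Reach T x W) :
    ∀ y : Fin 5 → k, y ≠ 0 → DimLE k {b : A k e | b ∈ Z T e ∧ b 0 ∈ Submodule.span k {y}} (2 * e + 2) := by
  have : Infinite k := IsAlgClosed.instInfinite
  intro y hy hd
  have hSy : IsZOpen k ({b : A k e | b ∈ Z T e ∧ b 0 ∈ Submodule.span k {y}})ᶜ := by
    have h1 : IsZOpen k {b : A k e | b 0 ∉ Submodule.span k {y}} :=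
      isZOpen_notMem_comp (φ := fun b : A k e => b 0) _
        (isPolyMap_linear (LinearMap.proj 0 : (Fin (e + 1) → Fin 5 → k) →ₗ[k] (Fin 5 → k)))
    refine (isZOpen_congr fun b => ?_).1 (zo_union (isZOpen_compl_Z' (T := T) e) h1)
    simp only [Set.mem_union, Set.mem_compl_iff, Set.mem_setOf_eq]
    tauto
  -- a component of large dimension
  obtain ⟨D, hD, hDd⟩ : ∃ D, IsComp k {b : A k e | b ∈ Z T e ∧ b 0 ∈ Submodule.span k {y}} D ∧
      DimGE k D (2 * e + 3) := by
    by_contra hcon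
    push Not at hcon
    refine DimLE.mono ?_ (dimLE_biUnion (finite_comps hSy) (S := fun C => C) hcon) hd
    intro b hb
    obtain ⟨C, hC, hbC⟩ := mem_comp hSy hb
    exact Set.mem_biUnion hC hbC
  have hDcl := isComp_closed hSy hD
  obtain ⟨W, hW, hDW⟩ := exists_comp (isZOpen_compl_Z' (T := T) e) hD.2.1 (fun b hb => (hD.1 hb).1)
  have hWcl := isComp_closed (isZOpen_compl_Z' (T := T) e) hW
  -- a curve of `W` avoiding `y`
  obtain ⟨b₀, hb₀, hav⟩ : ∃ b ∈ W, ∀ s t : k, (s ≠ 0 ∨ t ≠ 0) → hev b s t ∉ Submodule.span k {y} := by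
    obtain ⟨O, hO, hne, hO'⟩ := exists_good
    obtain ⟨O₁, hO₁, hne₁, hO₁'⟩ := K424.X0.exists_off_cone hT hsm hy
    obtain ⟨x, hx, hx1, hx2⟩ := (K424.X0.irr_X0 hT hsm).2 O O₁ hO hO₁ hne hne₁
    have hg := hO' x hx1 hx
    obtain ⟨h1, h2⟩ := hO₁' x hx2 hx
    exact exists_avoid hT hW.2.1 hg.1 h1 h2 (hB W hW x hg)
  let Q : Set (A k e) := W ∩ {b | ∀ s t : k, (s ≠ 0 ∨ t ≠ 0) → hev b s t ∉ Submodule.span k {y}}ᶜ
  have hQcl : IsZOpen k Qᶜ := by
    refine (isZOpen_congr fun b => ?_).1 (zo_union hWcl (isZOpen_avoid (k := k) (e := e) (y := y)))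
    rw [Set.compl_inter, compl_compl]
  have hQd : DimLE k Q (2 * e + 3) := by
    intro h
    have h1 : Q = W := eq_of_dim hW.2.1 Set.inter_subset_left hQcl h (DimLE.mono hW.1 hA)
    have h2 : b₀ ∈ Q := by rw [h1]; exact hb₀
    exact h2.2 hav
  -- the translates
  let E : k → Set (A k e) := fun r => tr e r '' D
  have hE' : ∀ r, E r = (tr e (-r)) ⁻¹' D := by
    intro r
    ext b
    constructor
    · rintro ⟨a, ha, rfl⟩
      change tr e (-r) (tr e r a) ∈ D
      rwa [tr_neg_tr]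
    · intro hb
      exact ⟨_, hb, tr_tr_neg r b⟩
  have hEcomp : ∀ r, IsComp k Q (E r) := by
    intro r
    have hirr : Irr k (E r) := hD.2.1.image (isPolyMap_linear (tr e r))
    have hcl : IsZOpen k (E r)ᶜ := by
      rw [hE', ← Set.preimage_compl]
      exact zo_preimage hDcl (isPolyMap_linear (tr e (-r)))
    have hdim : DimGE k (E r) (2 * e + 3) := by
      refine DimGE.of_image (isPolyMap_linear (tr e (-r))) (DimGE.mono ?_ hDd)
      intro a ha
      exact ⟨tr e r a, ⟨a, ha, rfl⟩, tr_neg_tr r a⟩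
    have hsub : E r ⊆ Q := by
      rintro _ ⟨a, ha, rfl⟩
      refine ⟨comp_translate hW r (hDW ha), fun h => ?_⟩
      have h1 := h 1 (-r) (Or.inl one_ne_zero)
      rw [hev_one, ev_tr, add_neg_cancel, ev_zero'] at h1
      exact h1 (hD.1 ha).2
    obtain ⟨C, hC, hEC⟩ := exists_comp hQcl hirr hsub
    have h1 : E r = C := eq_of_dim hC.2.1 hEC hcl hdim (DimLE.mono hC.1 hQd)
    rwa [h1]
  -- infinitely many translates coincide
  have hfin : Finite ↥{C | IsComp k Q C} := (finite_comps hQcl).to_subtype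
  obtain ⟨C, hC⟩ := Finite.exists_infinite_fiber (fun r : k => (⟨E r, hEcomp r⟩ : ↥{C | IsComp k Q C}))
  have hinf : (((fun r : k => (⟨E r, hEcomp r⟩ : ↥{C | IsComp k Q C})) ⁻¹' {C}) : Set k).Infinite :=
    Set.infinite_coe_iff.1 hC
  have hmem : ∀ r ∈ ((fun r : k => (⟨E r, hEcomp r⟩ : ↥{C | IsComp k Q C})) ⁻¹' {C} : Set k), E r = C.1 :=
    fun r hr => congrArg Subtype.val hr
  obtain ⟨r₀, hr₀⟩ := hinf.nonempty
  -- the curves of `C` are multiples of `y`
  have hCL : ∀ b ∈ C.1, ∀ i, b i ∈ Submodule.span k {y} := by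
    intro b hb i
    refine mem_span_of_forall fun l hl => ?_
    refine coeff_zero l (hinf.image (f := fun r => -r) (neg_injective.injOn)) ?_ i
    rintro _ ⟨r, hr, rfl⟩
    have h1 : b ∈ E r := by rw [hmem r hr]; exact hb
    rw [hE'] at h1
    have h2 := (hD.1 h1).2
    have h2' : tr e (-r) b 0 = ev b (-r) := by
      rw [← ev_zero' (tr e (-r) b), ev_tr, add_zero]
    rw [h2'] at h2
    obtain ⟨c, hc⟩ := Submodule.mem_span_singleton.1 h2
    change l (ev b (-r)) = 0
    rw [← hc, map_smul, hl, smul_zero]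
  let ψ : (Fin (e + 1) → k) →ₗ[k] A k e :=
    { toFun := fun r i => r i • y
      map_add' := fun r s => by funext i; simp [add_smul]
      map_smul' := fun c r => by funext i; simp [mul_smul] }
  have hCψ : C.1 ⊆ (LinearMap.range ψ : Set (A k e)) := by
    intro b hb
    choose c hc using fun i => Submodule.mem_span_singleton.1 (hCL b hb i)
    exact ⟨c, funext fun i => hc i⟩
  have hfr : finrank k ↥(LinearMap.range ψ) ≤ e + 1 := by
    have h1 := LinearMap.finrank_range_le ψ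
    rwa [Module.finrank_fin_fun] at h1
  have h1 : DimLE k C.1 (e + 1) := DimLE.mono hCψ (DimLE.anti hfr (dimLE_submodule _))
  have h2 : DimGE k C.1 (2 * e + 3) := by
    rw [← hmem r₀ hr₀]
    refine DimGE.of_image (isPolyMap_linear (tr e (-r₀))) (DimGE.mono ?_ hDd)
    intro a ha
    exact ⟨tr e r₀ a, ⟨a, ha, rfl⟩, tr_neg_tr r₀ a⟩
  exact h1 (DimGE.anti (by omega) h2)

end K402.PX
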